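import Cfsg.Agent.H0.PG2
set_option maxRecDepth 100000
set_option Elab.async false
set_option linter.unusedSectionVars false
namespace H0.ML28
open H0 BN 
noncomputable def n0 : Net := (Net.cons (nat_lit 8) (nat_lit 0x10) (Net.cons (nat_lit 4) (nat_lit 0x10a) (Net.cons (nat_lit 2) (nat_lit 0x21) (Net.cons (nat_lit 1) (nat_lit 0x40) (Net.cons (nat_lit 2) (nat_lit 0x20) (Net.cons (nat_lit 4) (nat_lit 0x2) (Net.cons (nat_lit 8) (nat_lit 0x10) Net.nil)))))))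
noncomputable def n1 : Net := (Net.cons (nat_lit 8) (nat_lit 0x84) (Net.cons (nat_lit 4) (nat_lit 0x80a) (Net.cons (nat_lit 2) (nat_lit 0x110) (Net.cons (nat_lit 1) (nat_lit 0x441) (Net.cons (nat_lit 4) (nat_lit 0x808) (Net.cons (nat_lit 8) (nat_lit 0x84) Net.nil))))))
noncomputable def n2 : Net := (Net.cons (nat_lit 8) (nat_lit 0x84) (Net.cons (nat_lit 4) (nat_lit 0x808) (Net.cons (nat_lit 2) (nat_lit 0x330) (Net.cons (nat_lit 1) (nat_lit 0x111) (Net.cons (nat_lit 2) (nat_lit 0x220) (Net.cons (nat_lit 4) (nat_lit 0x80a) (Net.cons (nat_lit 8) (nat_lit 0x84) Net.nil)))))))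
noncomputable def n3 : Net := (Net.cons (nat_lit 8) (nat_lit 0x2) (Net.cons (nat_lit 4) (nat_lit 0xc) (Net.cons (nat_lit 1) (nat_lit 0x110) (Net.cons (nat_lit 8) (nat_lit 0x2) Net.nil))))
noncomputable def n4 : Net := (Net.cons (nat_lit 8) (nat_lit 0xbe) (Net.cons (nat_lit 4) (nat_lit 0x200) (Net.cons (nat_lit 2) (nat_lit 0x2200) (Net.cons (nat_lit 1) (nat_lit 0x1500) (Net.cons (nat_lit 2) (nat_lit 0x2000) (Net.cons (nat_lit 4) (nat_lit 0x800) (Net.cons (nat_lit 8) (nat_lit 0xbe) Net.nil)))))))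
noncomputable def n5 : Net := (Net.cons (nat_lit 8) (nat_lit 0xbe) (Net.cons (nat_lit 4) (nat_lit 0x800) (Net.cons (nat_lit 2) (nat_lit 0x2100) (Net.cons (nat_lit 1) (nat_lit 0x1500) (Net.cons (nat_lit 2) (nat_lit 0x2000) (Net.cons (nat_lit 4) (nat_lit 0x200) (Net.cons (nat_lit 8) (nat_lit 0xbe) Net.nil)))))))
noncomputable def n6 : Net := (Net.cons (nat_lit 8) (nat_lit 0xfc) (Net.cons (nat_lit 4) (nat_lit 0x700) (Net.cons (nat_lit 2) (nat_lit 0x1000) (Net.cons (nat_lit 1) (nat_lit 0x4100) (Net.cons (nat_lit 2) (nat_lit 0x200) (Net.cons (nat_lit 4) (nat_lit 0x200) (Net.cons (nat_lit 8) (nat_lit 0xfc) Net.nil)))))))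
noncomputable def n7 : Net := (Net.cons (nat_lit 8) (nat_lit 0xfc) (Net.cons (nat_lit 4) (nat_lit 0xd00) (Net.cons (nat_lit 2) (nat_lit 0x2300) (Net.cons (nat_lit 1) (nat_lit 0x1100) (Net.cons (nat_lit 2) (nat_lit 0x200) (Net.cons (nat_lit 4) (nat_lit 0x800) (Net.cons (nat_lit 8) (nat_lit 0xfc) Net.nil)))))))
noncomputable def n8 : Net := (Net.cons (nat_lit 8) (nat_lit 0x84) (Net.cons (nat_lit 4) (nat_lit 0x808) (Net.cons (nat_lit 2) (nat_lit 0x330) (Net.cons (nat_lit 1) (nat_lit 0x111) (Net.cons (nat_lit 2) (nat_lit 0x220) (Net.cons (nat_lit 4) (nat_lit 0x80a) (Net.cons (nat_lit 8) (nat_lit 0x84) Net.nil)))))))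
def B : List (List ℕ) := [[0, 0], [1, 2], [2, 1], [3, 3], [4, 5], [5, 4], [6, 7], [7, 6], [6, 6, 6, 6, 6, 6, 6], [4, 4, 4, 4, 4, 4, 4], [5, 3, 7], [3, 4, 3, 4, 3, 4, 3, 4, 3, 4, 3, 4, 3, 4], [3, 4, 3, 5, 3, 4, 3, 5], [3, 5, 3, 5, 3, 5, 3, 5, 3, 5, 3, 5, 3, 5], [4, 7, 4, 3, 6, 6, 6], [1, 1, 1], [2, 0, 1, 3], [0, 2, 0, 1, 0, 2, 5], [0, 1, 0, 1, 0, 1, 0, 1, 0, 1, 0, 1, 0, 1, 0, 1, 0, 1], [0, 1, 0, 2, 0, 1, 0, 2, 0, 1, 0, 2, 0, 1, 0, 2, 0, 1, 0, 2, 0, 1, 0, 2, 0, 1, 0, 2], [0, 2, 0, 2, 0, 2, 0, 2, 0, 2, 0, 2, 0, 2, 0, 2, 0, 2], [1, 4, 1, 4], [1, 0, 3, 0, 4], [0, 5, 1, 6, 4, 4]]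
def inv (x : ℕ) : ℕ := [0, 2, 1, 3, 5, 4, 7, 6].getD x 0
noncomputable def nl : List Net := [n0, n1, n2, n3, n4, n5, n6, n7, n8]
theorem nl_ok : allL (Net.ok (nat_lit 16)) nl = true := by decide +kernel
noncomputable def R : Rep := mkRep (nat_lit 4) (nat_lit 16) nl (by decide +kernel) nl_ok
def defs : List (List ℕ) := [[2]]
theorem R_ge : ∀ x, 8 + defs.length ≤ x → R.p x = 1 := fun _ hx => mkRep_ge hx
def ngSt : List (List (ℕ × List ℕ) × List ℕ × ℕ × ℕ) := [([(0, [6]), (0, [])], [0], 3, 2), ([(1, [])], [3], 7, 2), ([(1, [])], [4], 9, 7), ([(3, [])], [5], 1, 7), ([(3, [])], [1], 2, 3), ([(5, [])], [2], 1, 3), ([(3, [])], [6], 2, 7), ([(7, [])], [7], 1, 7)]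
def ngR : List (List ℕ) := ngRels inv ngSt [[8]]
def xR : List (List ℕ) := [wpow [8] 3]
theorem c0 : relsW R 0 R.lg ((B.drop 0).take 24) = true := by decide +kernel
theorem c1 : defsChk R defs 8 = true := by decide +kernel
theorem c2 : Model.fixW R [] [[0], [1]] = true := by decide +kernel
theorem c3 : Model.growW R [[0], [1]] [0, 1, 0, 1] (Nat.pow 2 0) (ival 0 9) = true := by decide +kernel
theorem c4 : Model.fixW R [0] [[3], [4]] = true := by decide +kernel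
theorem c5 : Model.growW R [[3], [4]] [0, 1, 0, 1, 0] (Nat.pow 2 1) (ival 1 8) = true := by decide +kernel
theorem c6 : Model.fixW R [1, 0] [[6]] = true := by decide +kernel
theorem c7 : Model.growW R [[6]] [0, 0, 0, 0, 0, 0] (Nat.pow 2 2) (ival 2 7) = true := by decide +kernel
theorem c8 : Model.growW R [[0], [1]] [0, 1, 0, 1] (Nat.pow 2 0) (ival 0 9) = true := by decide +kernel
theorem c9 : Model.invW R [[0], [1], [2], [3], [4], [5], [6], [7]] 0 9 = true := by decide +kernel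
theorem c10 : Model.fixW R [0] [[3], [4]] = true := by decide +kernel
theorem c11 : Model.growW R [[3], [4]] [0, 1, 0, 1, 0] (Nat.pow 2 2) (ival 1 8) = true := by decide +kernel
theorem c12 : mapsW R [0] (Nat.pow 2 0) (Nat.pow 2 2) = true := by decide +kernel
theorem c13 : Model.growW R [[0], [3], [4]] [0, 1, 0, 2, 1] (Nat.pow 2 0) (ival 0 9) = true := by decide +kernel
theorem c14 : relsW R 0 R.lg ((ngR.drop 0).take 16) = true := by decide +kernel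
theorem c15 : relsW R 0 R.lg ((xR.drop 0).take 1) = true := by decide +kernel
end H0.ML28
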